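import Groth.Agent.LefProZeroLib.Lef
import Groth.Agent.AmpleSliceLib.Cut
import Groth.Agent.SecDivLib.Zero
import Groth.Agent.RelDualLib.Bundle
import Groth.Agent.AmpleFinGenLib.Divisor
import Groth.Agent.IntMultRegLib.Geom
import Groth.Agent.NormalLib.Regular
import Groth.Agent.FibDimLib.Formula

/-!
# The Lefschetz condition for an intersection of ample divisors on a regular variety
-/

set_option autoImplicit false
set_option linter.style.haveILetI false
set_option linter.unusedSectionVars false
set_option maxHeartbeats 1000000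
set_option backward.isDefEq.respectTransparency false
set_option backward.isDefEq.respectTransparency.types false
universe u

open CategoryTheory CategoryTheory.Limits AlgebraicGeometry TopologicalSpace
open TwistLib (genSet)

noncomputable section

namespace LefProZeroLib

variable {k : Type u} [Field k] {X : Scheme.{u}} [X.Over (Spec (CommRingCat.of k))]
  [IsProper (X ↘ Spec (CommRingCat.of k))]

include k in
/-- The dimension drops at most by one along an ample divisor. -/
theorem dim_inter_support {D : X.IdealSheafData} (hD : AmpleDiv D) {T : Set X} (hT : IsClosed T) {r : ℕ}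
    (hdim : ((r + 1 : ℕ) : WithBot ℕ∞) ≤ topologicalKrullDim T) :
    ((r : ℕ) : WithBot ℕ∞) ≤ topologicalKrullDim ↥(T ∩ (D.support : Set X)) := by
  obtain ⟨L, hL, hLD⟩ := hD.exists_inv
  obtain ⟨s, hs⟩ := SecDivLib.exists_secHom hL.1 hD.cartier hLD
  haveI : Mono s := RelDualLib.mono_of_zeroScheme hL.1 hD.cartier s hs
  have h := AmpleSliceLib.dim_cut (X ↘ Spec (CommRingCat.of k)) hL.1 hL
    (s.app ⊤ (show Γ(Coh.structureModule X, ⊤) from (1 : Γ(X, ⊤)))) hT hdim
  refine h.trans (le_of_eq ?_)
  have e : T \ (genSet hL.1 (s.app ⊤ (show Γ(Coh.structureModule X, ⊤) from (1 : Γ(X, ⊤)))) : Set X) =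
      T ∩ (D.support : Set X) := by
    ext y
    have h1 := AmpleFinGenLib.notMem_support_zeroScheme hL.1 s y
    rw [AmpleThLib.genLocus_hom hL.1, hs] at h1
    exact and_congr_right fun _ => (not_congr h1.symm).trans not_not
  rw [e]

include k in
/-- A closed set missing the intersection of `m` ample divisors has dimension less than `m`. -/
theorem dim_lt_of_disjoint : ∀ (m : ℕ) (D : Fin m → X.IdealSheafData), (∀ i, AmpleDiv (D i)) →
    ∀ T : Set X, IsClosed T → Disjoint T (⋂ i, ((D i).support : Set X)) →
      topologicalKrullDim T < (m : WithBot ℕ∞)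
  | 0, D, _, T, _, hd => by
    rw [Set.iInter_of_empty, Set.disjoint_univ] at hd
    subst hd
    haveI : IsEmpty ↥(∅ : Set X) := Set.isEmpty_coe_sort.2 rfl
    haveI : IsEmpty (IrreducibleCloseds ↥(∅ : Set X)) := ⟨fun Z => isEmptyElim Z.isIrreducible.nonempty.some⟩
    rw [topologicalKrullDim, Order.krullDim_eq_bot]
    exact WithBot.bot_lt_coe _
  | m + 1, D, hD, T, hT, hd => by
    by_contra h
    rw [not_lt] at h
    have h' := dim_inter_support (k := k) (hD (Fin.last m)) hT h
    refine (not_lt.2 h') (dim_lt_of_disjoint m (fun i => D i.castSucc) (fun i => hD _) _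
      (hT.inter (D (Fin.last m)).support.isClosed) (Set.disjoint_left.2 fun y hy hy' => ?_))
    exact Set.disjoint_left.1 hd hy.1
      (Set.mem_iInter.2 fun i => Fin.lastCases hy.2 (Set.mem_iInter.1 hy') i)

include k in
/-- At a point, the depth of a regular scheme is the codimension. -/
theorem le_depth_regular [IsIntegral X] (hreg : ∀ x : X, IsRegularLocalRing (X.presheaf.stalk x))
    {n : ℕ} (hdim : topologicalKrullDim X = n) (x : X) (c : ℕ) (hc : c ≤ n)
    (h : topologicalKrullDim ↥(closure ({x} : Set X)) < ((n - c + 1 : ℕ) : WithBot ℕ∞)) :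
    (c : ℕ∞) ≤ LocCoh.depth (X.presheaf.stalk x) (X.presheaf.stalk x) := by
  haveI := hreg x
  have h0 := IntMultRegLib.dim_eq (X ↘ Spec (CommRingCat.of k)) x
  rw [IntMultRegLib.fibreClosureDim_eq, hdim] at h0
  have h1 := NormalLib.le_depth_self_of_isRegularLocalRing (X.presheaf.stalk x)
  obtain ⟨a, ha⟩ : ∃ a : ℕ, topologicalKrullDim ↥(closure ({x} : Set X)) = a := by
    cases hq : topologicalKrullDim ↥(closure ({x} : Set X)) using WithBot.recBotCoe with
    | bot => rw [hq, WithBot.bot_add] at h0; exact absurd h0 (by simp)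
    | coe a =>
      rw [hq] at h
      cases a using ENat.recTopCoe with
      | top => exact absurd h (by simp)
      | coe a => exact ⟨a, rfl⟩
  rw [ha] at h h0
  have ha' : a < n - c + 1 := by exact_mod_cast h
  rw [← WithBot.coe_le_coe]
  refine le_trans ?_ h1
  by_contra hlt
  rw [not_le] at hlt
  cases hq : ringKrullDim (X.presheaf.stalk x) using WithBot.recBotCoe with
  | bot => rw [hq, WithBot.add_bot] at h0; exact absurd h0 (by simp)
  | coe b =>
    rw [hq] at h0 hlt
    cases b using ENat.recTopCoe with
    | top => exact absurd hlt (by simp)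
    | coe b =>
      have hb : b < c := by exact_mod_cast hlt
      have hn : n = a + b := by exact_mod_cast h0
      omega

include k in
/-- **The Lefschetz condition for a set theoretic intersection of ample divisors.** -/
theorem lefCond_iInter [IsIntegral X] (hreg : ∀ x : X, IsRegularLocalRing (X.presheaf.stalk x))
    {A : X.Modules} (hA : CohB1.IsAmple A) {n : ℕ} (hdim : topologicalKrullDim X = n) {m : ℕ} (hm : m + 1 ≤ n)
    (D : Fin m → X.IdealSheafData) (hD : ∀ i, AmpleDiv (D i)) (𝓘 : X.IdealSheafData)
    (hY : (𝓘.support : Set X) = ⋂ i, ((D i).support : Set X)) : Lef.LefCond X 𝓘 := by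
  haveI : IsNoetherian X := CurvLib.isNoetherian k (X := X)
  have hcl : ∀ x : X, IsClosed ({x} : Set X) →
      (n : ℕ∞) ≤ LocCoh.depth (X.presheaf.stalk x) (X.presheaf.stalk x) := fun x hx => by
    refine le_depth_regular (k := k) hreg hdim x n le_rfl ?_
    rw [hx.closure_eq]
    haveI : Subsingleton ↥({x} : Set X) := ⟨fun a b => Subtype.ext (a.2.trans b.2.symm)⟩
    refine lt_of_le_of_lt (topologicalKrullDim_zero_of_discreteTopology _) ?_
    norm_num
  refine lefCond_of_pz (k := k) hA (fun C hC => ?_) fun U hU x hx => le_depth_regular (k := k) hreg hdim x 2 ?_ ?_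
  · rw [hY]
    cases m with
    | zero => rw [Set.iInter_of_empty]; exact pz_univ _ _
    | succ m => exact (pz_iInter hC hcl m D hD).mono (by omega)
  · rcases Nat.lt_or_ge n 2 with h | h
    · exfalso
      obtain rfl : m = 0 := by omega
      rw [hY, Set.iInter_of_empty] at hU
      exact hx (hU trivial)
    · exact h
  · refine (dim_lt_of_disjoint (k := k) m D hD _ isClosed_closure (Set.disjoint_left.2 fun y hy hy' => ?_)).trans_le ?_
    · refine hx ?_
      have hyU : y ∈ U := hU (hY.ge hy')
      exact (specializes_iff_mem_closure.2 hy).mem_open U.2 hyU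
    · exact_mod_cast (by omega : m ≤ n - 2 + 1)

end LefProZeroLib
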