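import Groth.Agent.LefProZeroLib.Divisors
import Groth.Agent.EssZeroLib.LimitMod
import Groth.Agent.NakaiLib.Gen
import Groth.Agent.KFlatLib.PerfectPull
import Groth.Agent.LefDisjLib.Main

/-!
# The Lefschetz condition from essentially zero systems in degrees zero and one
-/

set_option autoImplicit false
set_option linter.style.haveILetI false
set_option linter.unusedSectionVars false
set_option maxHeartbeats 1000000
set_option backward.isDefEq.respectTransparency false
set_option backward.isDefEq.respectTransparency.types false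
universe u

open CategoryTheory CategoryTheory.Limits AlgebraicGeometry TopologicalSpace

noncomputable section

namespace LefProZeroLib

variable {k : Type u} [Field k] {X : Scheme.{u}} [X.Over (Spec (CommRingCat.of k))]

/-- A global section as a degree zero class. -/
def secHH {M : X.Modules} (φ : Coh.structureModule X ⟶ M) : Coh.HH X M 0 :=
  letI := CurvLib.secModule (k := k) M
  (CurvLib.hhZeroEquiv (k := k) M).symm (KFlatLib.unitSecEquiv M φ)

theorem secHH_comp {M N : X.Modules} (φ : Coh.structureModule X ⟶ M) (g : M ⟶ N) :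
    secHH (k := k) (φ ≫ g) = CurvLib.hMap (k := k) g 0 (secHH (k := k) φ) := by
  letI := CurvLib.secModule (k := k) M
  letI := CurvLib.secModule (k := k) N
  refine (LinearEquiv.symm_apply_eq _).2 ?_
  rw [NakaiLib.hhZeroEquiv_map, KFlatLib.unitSecEquiv_comp]
  exact congrArg (g.app ⊤) (LinearEquiv.apply_symm_apply _ _).symm

theorem secHH_bijective (M : X.Modules) : Function.Bijective (secHH (k := k) (M := M)) := by
  letI := CurvLib.secModule (k := k) M
  exact (CurvLib.hhZeroEquiv (k := k) M).symm.bijective.comp (KFlatLib.unitSecEquiv M).bijective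

/-- With zero set the support, the powers form an essentially zero system after tensoring. -/
theorem exists_step [IsNoetherian X] {𝓘 : X.IdealSheafData} {C : X.Modules} {b : ℕ}
    (h : PZ k (CurvLib.tensorLeft' C) b (𝓘.support : Set X)) (p : ℕ) :
    ∃ q : ℕ, p ≤ q ∧ ∃ hq : 𝓘 ^ (q + 1) ≤ 𝓘 ^ (p + 1),
      ∀ j : ℕ, j < b → ∀ x, CurvLib.hMap (k := k) ((CurvLib.tensorLeft' C).map (incl hq)) j x = 0 := by
  obtain ⟨Q, hQ, hQs, hz⟩ := h (𝓘 ^ (p + 1)) (by rw [Scheme.IdealSheafData.support_pow_succ])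
  obtain ⟨N, hN⟩ := CohExtLib.exists_pow_le (I := 𝓘) (J := Q) hQs.le
  have hle : 𝓘 ^ (max p N + 1) ≤ Q := fun V =>
    le_trans (by rw [CohExtLib.pow_ideal, CohExtLib.pow_ideal]; exact Ideal.pow_le_pow_right (by omega)) (hN V)
  exact ⟨max p N, le_max_left _ _, hle.trans hQ,
    fun j hj => hMap_incl_eq_zero hQ hle le_rfl j (hz j hj)⟩

variable [IsNoetherian X] {𝓘 : X.IdealSheafData} {C : X.Modules} (hC : PicF.IsInvertible C)

/-- The quotient maps after tensoring. -/
abbrev tπ (𝓘 : X.IdealSheafData) (C : X.Modules) (n : ℕ) :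
    (CurvLib.tensorLeft' C).obj (Coh.structureModule X) ⟶
      (CurvLib.tensorLeft' C).obj (ClSub.quotMod (𝓘 ^ (n + 1))) :=
  (CurvLib.tensorLeft' C).map (ClSub.toSubscheme (𝓘 ^ (n + 1)))

include hC in
theorem exists_zeroStepMod (h : PZ k (CurvLib.tensorLeft' C) 2 (𝓘.support : Set X)) (p : ℕ) :
    ∃ q : ℕ, p ≤ q ∧ EssZeroLib.ZeroStepMod k 1 (tπ 𝓘 C q) (tπ 𝓘 C p) := by
  obtain ⟨q, hpq, hq, hz⟩ := exists_step h p
  let T := CurvLib.tensorLeft' C
  have hS : ∀ n : ℕ, ((CurvLib.idealSeq (𝓘 ^ (n + 1))).map T).ShortExact := fun n =>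
    HilbPolyLib.shortExact_tensor hC (CurvLib.idealSeq_shortExact _)
  let κ : ∀ n : ℕ, T.obj (ClSub.idealMod (𝓘 ^ (n + 1))) ≅ kernel (tπ 𝓘 C n) := fun n =>
    IsLimit.conePointUniqueUpToIso (hS n).fIsKernel (limit.isLimit _)
  have hκ : ∀ n : ℕ, (κ n).hom ≫ kernel.ι (tπ 𝓘 C n) = T.map (ClSub.idealModι (𝓘 ^ (n + 1))) := fun n =>
    IsLimit.conePointUniqueUpToIso_hom_comp _ _ WalkingParallelPair.zero
  refine ⟨q, hpq, (κ q).inv ≫ T.map (incl hq) ≫ (κ p).hom, ?_, fun j hj x => ?_⟩
  · rw [Category.assoc, Category.assoc, hκ, ← T.map_comp, incl_ι, ← hκ, Iso.inv_hom_id_assoc]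
  · rw [CurvLib.hMap_comp, CurvLib.hMap_comp, hz j (by omega), map_zero]

include hC in
/-- Two sections agreeing at every level agree. -/
theorem section_ext (h : PZ k (CurvLib.tensorLeft' C) 2 (𝓘.support : Set X))
    {φ ψ : Coh.structureModule X ⟶ (CurvLib.tensorLeft' C).obj (Coh.structureModule X)}
    (hh : ∀ n, φ ≫ tπ 𝓘 C n = ψ ≫ tπ 𝓘 C n) : φ = ψ := by
  haveI : ∀ n, Epi (tπ 𝓘 C n) := fun n =>
    (HilbPolyLib.shortExact_tensor hC (CurvLib.idealSeq_shortExact (𝓘 ^ (n + 1)))).epi_g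
  refine (secHH_bijective (k := k) _).1 (sub_eq_zero.1 ?_)
  refine EssZeroLib.injective_limit_mod (k := k) (tπ 𝓘 C) (exists_zeroStepMod hC h) 0 (Nat.zero_le 1) _ fun n => ?_
  rw [map_sub, ← secHH_comp, ← secHH_comp, hh n, sub_self]

include hC in
/-- A compatible system of sections comes from one section. -/
theorem section_exists (h : PZ k (CurvLib.tensorLeft' C) 2 (𝓘.support : Set X))
    (y : ∀ n, Coh.structureModule X ⟶ (CurvLib.tensorLeft' C).obj (ClSub.quotMod (𝓘 ^ (n + 1))))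
    (hy : ∀ n, y (n + 1) ≫ (CurvLib.tensorLeft' C).map (Lef.quotMap (Lef.pow_succ_le 𝓘 n)) = y n) :
    ∃ φ : Coh.structureModule X ⟶ (CurvLib.tensorLeft' C).obj (Coh.structureModule X),
      ∀ n, φ ≫ tπ 𝓘 C n = y n := by
  haveI : ∀ n, Epi (tπ 𝓘 C n) := fun n =>
    (HilbPolyLib.shortExact_tensor hC (CurvLib.idealSeq_shortExact (𝓘 ^ (n + 1)))).epi_g
  obtain ⟨x, hx⟩ := EssZeroLib.surjective_limit_mod (k := k) (tπ 𝓘 C)
    (fun n => (CurvLib.tensorLeft' C).map (Lef.quotMap (Lef.pow_succ_le 𝓘 n)))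
    (fun n => by
      show (CurvLib.tensorLeft' C).map _ ≫ (CurvLib.tensorLeft' C).map _ = (CurvLib.tensorLeft' C).map _
      rw [← Functor.map_comp, LefAlgzLib.toSubscheme_quotMap])
    (exists_zeroStepMod hC h) 0 zero_lt_one (fun n => secHH (k := k) (y n))
    (fun n => by rw [← secHH_comp, hy n])
  obtain ⟨φ, rfl⟩ := (secHH_bijective (k := k) _).2 x
  exact ⟨φ, fun n => (secHH_bijective (k := k) _).1 ((secHH_comp φ _).trans (hx n))⟩

include hC in
theorem homToFormalBijective_untwist {A : X.Modules} (vC : CohB1.tensorMod C A ≅ Coh.structureModule X)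
    (h : PZ k (CurvLib.tensorLeft' C) 2 (𝓘.support : Set X)) (p : ℕ) :
    Lef.HomToFormalBijective 𝓘 (CohB1.tensorMod A (FlatMod.freeMod X p)) := by
  haveI : (CurvLib.tensorLeft' C).IsEquivalence := VBP1Lib.isEquivalence_tensor vC
  let e : (CurvLib.tensorLeft' C).obj (CohB1.tensorMod A (FlatMod.freeMod X p)) ≅ FlatMod.freeMod X p :=
    (SerreVanLib.tensorAssoc C A (FlatMod.freeMod X p)).symm ≪≫ HilbPolyLib.congrLeft vC _ ≪≫
      KFlatLib.tensUnitIso _
  refine ⟨fun φ ψ hh => (CurvLib.tensorLeft' C).map_injective ((cancel_epi e.inv).1 ?_), fun y hy => ?_⟩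
  · refine Sigma.hom_ext (f := fun _ : Fin p => Coh.structureModule X) _ _ fun i => section_ext hC h fun n => ?_
    simp only [Category.assoc, tπ, ← (CurvLib.tensorLeft' C).map_comp, hh n]
  · have hc : ∀ i : Fin p, ∃ φ : Coh.structureModule X ⟶ (CurvLib.tensorLeft' C).obj (Coh.structureModule X),
        ∀ n, φ ≫ tπ 𝓘 C n =
          Sigma.ι (fun _ : Fin p => Coh.structureModule X) i ≫ e.inv ≫ (CurvLib.tensorLeft' C).map (y n) := fun i =>
      section_exists hC h _ fun n => by simp only [Category.assoc, ← (CurvLib.tensorLeft' C).map_comp, hy n]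
    choose φ hφ using hc
    refine ⟨(CurvLib.tensorLeft' C).preimage (e.hom ≫ Sigma.desc φ), fun n => (CurvLib.tensorLeft' C).map_injective ((cancel_epi e.inv).1 ?_)⟩
    rw [(CurvLib.tensorLeft' C).map_comp, (CurvLib.tensorLeft' C).map_preimage, Category.assoc, Iso.inv_hom_id_assoc]
    refine Sigma.hom_ext (f := fun _ : Fin p => Coh.structureModule X) _ _ fun i => ?_
    rw [Sigma.ι_desc_assoc]
    exact hφ i n

theorem homToFormalBijective_coh {L : X.Modules} (hL : CohB1.IsAmple L)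
    (h : ∀ C : X.Modules, PicF.IsInvertible C → PZ k (CurvLib.tensorLeft' C) 2 (𝓘.support : Set X))
    {K : X.Modules} (hK : Coh.IsCoh K) : Lef.HomToFormalBijective 𝓘 K := by
  obtain ⟨C, A, hC, vC, p, π, hπ⟩ := ProjLefLib.exists_cover hL K hK
  haveI := hπ
  have hV : Coh.IsCoh (CohB1.tensorMod A (FlatMod.freeMod X p)) := by
    have hA : PicF.IsInvertible A := CohCmpLib.isInvertible_of_inverse' hC vC
    exact QCohLib.isCoh_of_iso (KFlatLib.tensSwap A (FlatMod.freeMod X p)) (SerreVanLib.isCoh_tensor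
      ⟨CurvLib.isQCoh_freeMod X p, CurvLib.isFT_freeMod X p⟩ hA)
  obtain ⟨C', A', hC', vC', q, ρ, hρ⟩ := ProjLefLib.exists_cover hL (kernel π) (QCohLib.isCoh_kernel π hV hK.1)
  haveI := hρ
  exact ProjLefLib.homToFormalBijective_of_epi (homToFormalBijective_untwist hC vC (h C hC) p) π ρ
    (homToFormalBijective_untwist hC' vC' (h C' hC') q)

/-- **The Lefschetz condition from essentially zero systems, when depth is two at the boundary.** -/
theorem lefCond_of_pz {L : X.Modules} (hL : CohB1.IsAmple L)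
    (h : ∀ C : X.Modules, PicF.IsInvertible C → PZ k (CurvLib.tensorLeft' C) 2 (𝓘.support : Set X))
    (hd : ∀ U : X.Opens, (𝓘.support : Set X) ⊆ (U : Set X) → ∀ x : X, x ∉ U →
      (2 : ℕ∞) ≤ LocCoh.depth (X.presheaf.stalk x) (X.presheaf.stalk x)) : Lef.LefCond X 𝓘 := by
  intro U hU D hD
  haveI : Coh.IsQCoh (Coh.structureModule X) := (DevissLib.isCoh_structureModule X).1
  have hDc : Coh.IsCoh D := LocSuppLib.isCoh_of_isFinLocFree hD
  haveI := hDc.1
  haveI : IsLocallyNoetherian (U : Scheme.{u}) := inferInstance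
  obtain ⟨D', -, e, hD', -⟩ := LimHomLib.exists_fp_extension U (NoetherianSpace.isCompact _) (Coh.structureModule X) D
    (QCohLib.isFP_of_isCoh D hDc) 0
  haveI := HilbLCLib.isQCoh_of_isFP hD'
  exact ProjLefLib.homToFormalBijective_restrict U 𝓘 hU (ProjLefLib.isIso_unitToPush_ι U (hd U hU)) e
    (homToFormalBijective_coh hL h (ConsLib.isCoh_of_isFP hD'))

omit [AlgebraicGeometry.IsNoetherian X] in
/-- When the zero set is everything, the system is essentially zero in every degree. -/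
theorem pz_univ [IsIntegral X] (F : X.Modules ⥤ X.Modules) [F.Additive] (b : ℕ) : PZ k F b Set.univ := fun P _ => by
  have h0 : incl (bot_le : (⊥ : X.IdealSheafData) ≤ P) = 0 := by
    rw [← cancel_mono (ClSub.idealModι P), incl_ι, zero_comp]
    refine QuotSchLib.hom_zero_of_affines _ fun V s => ?_
    have := mem_of_section (⊥ : X.IdealSheafData) V s
    simpa [Scheme.IdealSheafData.ideal_bot] using this
  refine ⟨⊥, bot_le, ?_, fun j _ x => ?_⟩
  · rw [Scheme.IdealSheafData.support_bot]; rfl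
  · rw [h0, F.map_zero, EssZeroLib.hMap_zero]

end LefProZeroLib
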