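import Groth.Agent.LefProZeroLib.Engine
import Groth.Agent.CurvLib.EulerTensor
import Groth.Agent.PnDualLib.Embed
import Groth.Agent.SurfNumLib.IdealMul
import Groth.Agent.MiscFlat6.AmpleTensor
import Groth.Agent.BlowPtLib.Plane
import Groth.Agent.ProjLefLib.Cover
import Groth.Agent.HilbPolyLib.Twist
import Groth.Agent.AlgSpRegLib.CartierMul

/-!
# Intersections of ample divisors give essentially zero systems in low degrees
-/

set_option autoImplicit false
set_option linter.style.haveILetI false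
set_option linter.unusedSectionVars false
set_option maxHeartbeats 1000000
set_option backward.isDefEq.respectTransparency false
set_option backward.isDefEq.respectTransparency.types false
universe u

open CategoryTheory CategoryTheory.Limits AlgebraicGeometry TopologicalSpace

noncomputable section

namespace LefProZeroLib

/-- An effective Cartier divisor with an ample inverse. -/
structure AmpleDiv {X : Scheme.{u}} (D : X.IdealSheafData) : Prop where
  cartier : BlowUp.IsEffCartierIdeal D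
  exists_inv : ∃ L : X.Modules, CohB1.IsAmple L ∧ ClSub.IsInverseOf L (ClSub.idealMod D)

theorem nonempty_inverse_tensor {X : Scheme.{u}} {L M P Q : X.Modules}
    (u : CohB1.tensorMod L P ≅ Coh.structureModule X) (v : CohB1.tensorMod M Q ≅ Coh.structureModule X) :
    Nonempty (CohB1.tensorMod (CohB1.tensorMod L M) (CohB1.tensorMod P Q) ≅ Coh.structureModule X) := by
  have e1 : CohB1.tensorMod M (CohB1.tensorMod P Q) ≅ CohB1.tensorMod P (CohB1.tensorMod M Q) :=
    (SerreVanLib.tensorAssoc M P Q).symm ≪≫ HilbPolyLib.congrLeft (HilbPolyLib.swapIso M P) Q ≪≫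
      SerreVanLib.tensorAssoc P M Q
  have e2 : CohB1.tensorMod (CohB1.tensorMod L P) (CohB1.tensorMod M Q) ≅ Coh.structureModule X :=
    HilbPolyLib.congrLeft u _ ≪≫ HilbPolyLib.unitLeft _ ≪≫ v
  exact ⟨SerreVanLib.tensorAssoc L M _ ≪≫ HilbPolyLib.congrRight L e1 ≪≫
    (SerreVanLib.tensorAssoc L P _).symm ≪≫ e2⟩

theorem AmpleDiv.mul {X : Scheme.{u}} {D E : X.IdealSheafData} (hD : AmpleDiv D) (hE : AmpleDiv E) :
    AmpleDiv (D * E) := by
  obtain ⟨L, hL, ⟨u⟩⟩ := hD.exists_inv
  obtain ⟨M, hM, ⟨v⟩⟩ := hE.exists_inv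
  obtain ⟨φ⟩ := SurfNumLib.nonempty_idealMod_mul hD.cartier hE.cartier
  obtain ⟨w⟩ := nonempty_inverse_tensor u v
  exact ⟨AlgSpRegLib.isEffCartier_mul hD.cartier hE.cartier, CohB1.tensorMod L M,
    MiscFlat6.isAmple_tensor hL hM, ⟨HilbPolyLib.congrRight _ φ.symm ≪≫ w⟩⟩

variable {k : Type u} [Field k] {X : Scheme.{u}} [X.Over (Spec (CommRingCat.of k))]
  [IsProper (X ↘ Spec (CommRingCat.of k))] {C : X.Modules}

theorem pz_divisor {D : X.IdealSheafData} (hD : AmpleDiv D) (hC : PicF.IsInvertible C) {n : ℕ}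
    (hd : ∀ x : X, IsClosed ({x} : Set X) → (n : ℕ∞) ≤ LocCoh.depth (X.presheaf.stalk x) (X.presheaf.stalk x)) :
    PZ k (CurvLib.tensorLeft' C) n (D.support : Set X) := by
  haveI : IsNoetherian X := CurvLib.isNoetherian k (X := X)
  obtain ⟨L, hL, hLD⟩ := hD.exists_inv
  intro P hP
  obtain ⟨N, hN⟩ := CohExtLib.exists_pow_le (I := D) (J := P) hP.le
  have hCc : Coh.IsCoh C := CurvLib.isCoh_of_isInvertible hC
  have hdC : ∀ x : X, IsClosed ({x} : Set X) →
      (n : ℕ∞) ≤ LocCoh.depth (X.presheaf.stalk x) (C.presheaf.stalk x) := fun x hx => by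
    obtain ⟨e⟩ := AVAmpleLib.nonempty_stalk_structureModule X x
    have h1 : LocCoh.depth (X.presheaf.stalk x) (X.presheaf.stalk x) =
        LocCoh.depth (X.presheaf.stalk x) ((Coh.structureModule X).presheaf.stalk x) := CommAlgDim.depth_congr e
    rw [← QGorBCLib.depth_congr_iso (HilbPolyLib.unitLeft C) x,
      PnDualLib.depth_tensor_invertible hC (Coh.structureModule X) x, ← h1]
    exact hd x hx
  obtain ⟨m₀, hm₀⟩ := PnDualLib.exists_vanishing_ample_neg k hL hLD C hCc n hdC
  have hle : D ^ (m₀ + N + 1) ≤ P := fun V =>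
    le_trans (by rw [CohExtLib.pow_ideal, CohExtLib.pow_ideal]; exact Ideal.pow_le_pow_right (by omega)) (hN V)
  refine ⟨_, hle, by rw [Scheme.IdealSheafData.support_pow_succ], fun j hj x => ?_⟩
  obtain ⟨-, ⟨e⟩⟩ := BlowPtLib.nonempty_idealMod_pow D hD.cartier (m₀ + N + 1)
  have hs : Subsingleton (Coh.HH X ((CurvLib.tensorLeft' C).obj (ClSub.idealMod (D ^ (m₀ + N + 1)))) j) :=
    SerreVanLib.subsingleton_HH_of_iso (HilbPolyLib.congrRight C e.symm) j (hm₀ (m₀ + N + 1) (by omega) j hj)
  rw [hs.elim x 0, map_zero]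

theorem pz_zero (Z : Set X) : PZ k (CurvLib.tensorLeft' C) 0 Z := fun P hP =>
  ⟨P, le_rfl, hP, fun _ h => absurd h (Nat.not_lt_zero _)⟩

/-- **An intersection of `m + 1` ample divisors gives an essentially zero system below degree `n - m`.** -/
theorem pz_iInter (hC : PicF.IsInvertible C) {n : ℕ}
    (hd : ∀ x : X, IsClosed ({x} : Set X) → (n : ℕ∞) ≤ LocCoh.depth (X.presheaf.stalk x) (X.presheaf.stalk x)) :
    ∀ (m : ℕ) (D : Fin (m + 1) → X.IdealSheafData), (∀ i, AmpleDiv (D i)) →
      PZ k (CurvLib.tensorLeft' C) (n - m) (⋂ i, ((D i).support : Set X))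
  | 0, D, hD => by
    rw [show (⋂ i, ((D i).support : Set X)) = (D 0).support from
      Set.Subset.antisymm (Set.iInter_subset _ _) (Set.subset_iInter fun i => by rw [Fin.eq_zero i])]
    exact pz_divisor (hD 0) hC hd
  | m + 1, D, hD => by
    haveI : IsNoetherian X := CurvLib.isNoetherian k (X := X)
    rcases Nat.eq_zero_or_pos (n - (m + 1)) with h | h
    · rw [h]; exact pz_zero _
    let Z₁ : Closeds X := ⨅ i : Fin (m + 1), (D i.castSucc).support
    let Z₂ : Closeds X := (D (Fin.last (m + 1))).support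
    have e₁ : (Z₁ : Set X) = ⋂ i : Fin (m + 1), ((D i.castSucc).support : Set X) := Closeds.coe_iInf _
    have e : (⋂ i, ((D i).support : Set X)) = (Z₁ : Set X) ∩ Z₂ := by
      rw [e₁]
      ext y
      simp only [Set.mem_iInter, Set.mem_inter_iff]
      exact ⟨fun hy => ⟨fun i => hy _, hy _⟩, fun hy i => Fin.lastCases hy.2 hy.1 i⟩
    have h12 : (Z₁ : Set X) ∪ Z₂ = ⋂ i : Fin (m + 1), (((D i.castSucc) * D (Fin.last (m + 1))).support : Set X) := by
      rw [e₁, Set.iInter_union]
      refine Set.iInter_congr fun i => ?_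
      rw [Scheme.IdealSheafData.support_mul, Closeds.coe_sup]
    rw [e]
    refine PZ.inter (fun S hS => HilbPolyLib.shortExact_tensor hC hS) Z₁ Z₂ ?_ ((pz_divisor (hD _) hC hd).mono (by omega)) ?_
    · rw [e₁]
      exact (pz_iInter hC hd m _ fun i => hD _).mono (by omega)
    · rw [h12, show n - (m + 1) + 1 = n - m by omega]
      exact pz_iInter hC hd m _ fun i => (hD _).mul (hD _)

end LefProZeroLib
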