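import Groth.Agent.LefProZeroLib.Seq
import Groth.Agent.PnDualLib.Pair

/-!
# Essentially zero ideal systems on cohomology, and their behaviour under intersections
-/

set_option autoImplicit false
set_option linter.style.haveILetI false
set_option linter.unusedSectionVars false
set_option maxHeartbeats 1000000
set_option backward.isDefEq.respectTransparency false
set_option backward.isDefEq.respectTransparency.types false
universe u

open CategoryTheory CategoryTheory.Limits AlgebraicGeometry TopologicalSpace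

noncomputable section

namespace LefProZeroLib

variable (k : Type u) [Field k] {X : Scheme.{u}} [X.Over (Spec (CommRingCat.of k))]
  (F : X.Modules ⥤ X.Modules) [F.Additive]

/-- Below degree `b`, the ideals with zero set `Z` form an essentially zero system after applying `F`. -/
def PZ (b : ℕ) (Z : Set X) : Prop :=
  ∀ P : X.IdealSheafData, (P.support : Set X) = Z → ∃ Q : X.IdealSheafData, ∃ h : Q ≤ P,
    (Q.support : Set X) = Z ∧ ∀ j : ℕ, j < b → ∀ x, CurvLib.hMap (k := k) (F.map (incl h)) j x = 0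

variable {k F}

theorem PZ.mono {b b' : ℕ} {Z : Set X} (h : PZ k F b Z) (hb : b' ≤ b) : PZ k F b' Z := fun P hP => by
  obtain ⟨Q, hQ, hQs, hz⟩ := h P hP
  exact ⟨Q, hQ, hQs, fun j hj x => hz j (hj.trans_le hb) x⟩

theorem hMap_map_incl {I J K : X.IdealSheafData} (h : I ≤ J) (h' : J ≤ K) (j : ℕ) (x) :
    CurvLib.hMap (k := k) (F.map (incl (h.trans h'))) j x =
      CurvLib.hMap (k := k) (F.map (incl h')) j (CurvLib.hMap (k := k) (F.map (incl h)) j x) := by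
  rw [← CurvLib.hMap_comp, ← F.map_comp, incl_comp]

/-- Smaller ideals keep a zero map. -/
theorem hMap_incl_eq_zero {Q' Q P P' : X.IdealSheafData} (h : Q ≤ P) (h₁ : Q' ≤ Q) (h₂ : P ≤ P') (j : ℕ)
    (hz : ∀ x, CurvLib.hMap (k := k) (F.map (incl h)) j x = 0) (x) :
    CurvLib.hMap (k := k) (F.map (incl ((h₁.trans h).trans h₂))) j x = 0 := by
  rw [hMap_map_incl (h₁.trans h) h₂, hMap_map_incl h₁ h, hz, map_zero]

/-- **Mayer–Vietoris: intersections of essentially zero systems, one degree lower.** -/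
theorem PZ.inter [IsNoetherian X] (hF : ∀ S : ShortComplex X.Modules, S.ShortExact → (S.map F).ShortExact)
    {b : ℕ} (Z₁ Z₂ : Closeds X) (h₁ : PZ k F b Z₁) (h₂ : PZ k F b Z₂)
    (h₁₂ : PZ k F (b + 1) ((Z₁ : Set X) ∪ Z₂)) : PZ k F b ((Z₁ : Set X) ∩ Z₂) := by
  intro P hP
  let I₀ := Scheme.IdealSheafData.vanishingIdeal Z₁
  let J₀ := Scheme.IdealSheafData.vanishingIdeal Z₂
  have hI₀ : (I₀.support : Set X) = Z₁ := Scheme.IdealSheafData.coe_support_vanishingIdeal _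
  have hJ₀ : (J₀.support : Set X) = Z₂ := Scheme.IdealSheafData.coe_support_vanishingIdeal _
  obtain ⟨N, hN⟩ := CohExtLib.exists_pow_le (I := I₀ ⊔ J₀) (J := P) (by
    rw [hP, Scheme.IdealSheafData.support_sup, Closeds.coe_inf, hI₀, hJ₀])
  have hIJ : I₀ ^ (N + 1) ⊔ J₀ ^ (N + 1) ≤ P := by
    refine le_trans (sup_le ?_ ?_) hN
    · intro V
      rw [CohExtLib.pow_ideal, CohExtLib.pow_ideal]
      exact (Ideal.pow_le_pow_right (Nat.le_succ N)).trans (Ideal.pow_right_mono le_sup_left N)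
    · intro V
      rw [CohExtLib.pow_ideal, CohExtLib.pow_ideal]
      exact (Ideal.pow_le_pow_right (Nat.le_succ N)).trans (Ideal.pow_right_mono le_sup_right N)
  obtain ⟨Q₁, hQ₁, hs₁, hz₁⟩ := h₁ (I₀ ^ (N + 1)) (by rw [Scheme.IdealSheafData.support_pow_succ, hI₀])
  obtain ⟨Q₂, hQ₂, hs₂, hz₂⟩ := h₂ (J₀ ^ (N + 1)) (by rw [Scheme.IdealSheafData.support_pow_succ, hJ₀])
  have hsinf : ((Q₁ ⊓ Q₂).support : Set X) = (Z₁ : Set X) ∪ Z₂ := by
    rw [← hs₁, ← hs₂]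
    refine Set.Subset.antisymm ?_ ?_
    · intro y hy
      have h' := Scheme.IdealSheafData.support_antitone (show Q₁ * Q₂ ≤ Q₁ ⊓ Q₂ from fun V =>
        le_inf (Ideal.mul_le_left : Q₁.ideal V * Q₂.ideal V ≤ Q₁.ideal V) (Ideal.mul_le_right : Q₁.ideal V * Q₂.ideal V ≤ Q₂.ideal V)) hy
      rw [Scheme.IdealSheafData.support_mul] at h'
      exact h'
    · exact Set.union_subset (Scheme.IdealSheafData.support_antitone inf_le_left)
        (Scheme.IdealSheafData.support_antitone inf_le_right)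
  obtain ⟨Q₁₂, hQ₁₂, hs₁₂, hz₁₂⟩ := h₁₂ (Q₁ ⊓ Q₂) hsinf
  obtain ⟨N', hN'⟩ := CohExtLib.exists_pow_le (I := Q₁ ⊓ Q₂) (J := Q₁₂) (by rw [hs₁₂, hsinf])
  obtain ⟨r, hr, hr'⟩ := exists_pow_inf_le Q₁ Q₂ N'
  have hR₁ : Q₁ ^ r ≤ Q₁ := fun V => by
    rw [CohExtLib.pow_ideal]
    exact Ideal.pow_le_self (by omega)
  have hR₂ : Q₂ ^ r ≤ Q₂ := fun V => by
    rw [CohExtLib.pow_ideal]
    exact Ideal.pow_le_self (by omega)
  have hR : Q₁ ^ r ⊔ Q₂ ^ r ≤ P := (sup_le_sup (hR₁.trans hQ₁) (hR₂.trans hQ₂)).trans hIJ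
  refine ⟨Q₁ ^ r ⊔ Q₂ ^ r, hR, ?_, fun j hj x => ?_⟩
  · rw [Scheme.IdealSheafData.support_sup, Scheme.IdealSheafData.support_pow _ _ (by omega),
      Scheme.IdealSheafData.support_pow _ _ (by omega), Closeds.coe_inf, hs₁, hs₂]
  let φ := F.mapShortComplex.map (mvMap hR₁ hR₂)
  have hS := hF _ (mvSeq_shortExact (Q₁ ^ r) (Q₂ ^ r))
  have hS' := hF _ (mvSeq_shortExact Q₁ Q₂)
  have hδ : CurvLib.hDel (k := k) hS' j
      (CurvLib.hMap (k := k) (F.map (incl (sup_le_sup hR₁ hR₂))) j x) = 0 :=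
    (EssZeroLib.hDel_natural hS hS' φ j x).trans
      (hMap_incl_eq_zero hQ₁₂ (hr'.trans hN') le_rfl (j + 1) (hz₁₂ (j + 1) (by omega)) _)
  obtain ⟨z, hz⟩ : ∃ z : Coh.HH X (F.obj (ClSub.idealMod Q₁ ⊞ ClSub.idealMod Q₂)) j,
      CurvLib.hMap (k := k) (F.map (biprod.desc (incl (le_sup_left : Q₁ ≤ Q₁ ⊔ Q₂))
        (incl (le_sup_right : Q₂ ≤ Q₁ ⊔ Q₂)))) j z =
        CurvLib.hMap (k := k) (F.map (incl (sup_le_sup hR₁ hR₂))) j x :=
    (CurvLib.exact₃ hS' j).ge hδ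
  have hup : Q₁ ⊔ Q₂ ≤ P := (sup_le_sup hQ₁ hQ₂).trans hIJ
  rw [hMap_map_incl (sup_le_sup hR₁ hR₂) hup, ← hz, ← CurvLib.hMap_comp, ← F.map_comp,
    show biprod.desc (incl (le_sup_left : Q₁ ≤ Q₁ ⊔ Q₂)) (incl (le_sup_right : Q₂ ≤ Q₁ ⊔ Q₂)) ≫ incl hup =
      (biprod.fst : ClSub.idealMod Q₁ ⊞ ClSub.idealMod Q₂ ⟶ _) ≫ incl (le_sup_left.trans hup) +
        (biprod.snd : ClSub.idealMod Q₁ ⊞ ClSub.idealMod Q₂ ⟶ _) ≫ incl (le_sup_right.trans hup) by
      apply biprod.hom_ext' <;> simp,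
    F.map_add, F.map_comp, F.map_comp, PnDualLib.hMap_add, LinearMap.add_apply, CurvLib.hMap_comp,
    CurvLib.hMap_comp]
  refine (congrArg₂ (· + ·) (hMap_incl_eq_zero hQ₁ le_rfl (le_sup_left.trans hIJ) j (hz₁ j hj) _)
    (hMap_incl_eq_zero hQ₂ le_rfl (le_sup_right.trans hIJ) j (hz₂ j hj) _)).trans (add_zero _)

end LefProZeroLib
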