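import Groth.Agent.DefClassLib.Basic
import Groth.Agent.IntMultLib.Cartier
import Groth.Agent.CohExtLib.Basic
import Groth.Agent.EssZeroLib.Limit
import Mathlib.RingTheory.Filtration

/-!
# The Mayer–Vietoris sequence of two ideal sheaves, and Artin–Rees for their powers
-/

set_option autoImplicit false
set_option linter.style.haveILetI false
set_option linter.unusedSectionVars false
set_option maxHeartbeats 1000000
set_option backward.isDefEq.respectTransparency false
set_option backward.isDefEq.respectTransparency.types false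
universe u

open CategoryTheory CategoryTheory.Limits AlgebraicGeometry TopologicalSpace

noncomputable section

namespace LefProZeroLib

variable {X : Scheme.{u}}

/-- The inclusion of ideal modules. -/
def incl {I J : X.IdealSheafData} (h : I ≤ J) : ClSub.idealMod I ⟶ ClSub.idealMod J :=
  (EssZeroLib.exists_incl h).choose

@[reassoc (attr := simp)]
theorem incl_ι {I J : X.IdealSheafData} (h : I ≤ J) :
    incl h ≫ ClSub.idealModι J = ClSub.idealModι I :=
  (EssZeroLib.exists_incl h).choose_spec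

instance mono_idealModι (I : X.IdealSheafData) : Mono (ClSub.idealModι I) :=
  inferInstanceAs (Mono (kernel.ι (ClSub.toSubscheme I)))

@[reassoc (attr := simp)]
theorem incl_comp {I J K : X.IdealSheafData} (h : I ≤ J) (h' : J ≤ K) :
    incl h ≫ incl h' = incl (h.trans h') := by
  rw [← cancel_mono (ClSub.idealModι K), Category.assoc, incl_ι, incl_ι, incl_ι]

theorem incl_refl (I : X.IdealSheafData) : incl (le_refl I) = 𝟙 _ := by
  rw [← cancel_mono (ClSub.idealModι I), incl_ι, Category.id_comp]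

/-- A section of the ideal module as a function. -/
theorem mem_of_section (I : X.IdealSheafData) (V : X.affineOpens) (σ : Γ(ClSub.idealMod I, V.1)) :
    (show Γ(X, V.1) from (ClSub.idealModι I).app V.1 σ) ∈ I.ideal V :=
  (IntMultLib.toSubscheme_app_eq_zero_iff I V _).1
    congr(Scheme.Modules.Hom.app $(show ClSub.idealModι I ≫ ClSub.toSubscheme I = 0 from kernel.condition _) V.1 σ)

theorem app_incl {I J : X.IdealSheafData} (h : I ≤ J) (V : X.Opens) (σ : Γ(ClSub.idealMod I, V)) :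
    (ClSub.idealModι J).app V ((incl h).app V σ) = (ClSub.idealModι I).app V σ :=
  congr(Scheme.Modules.Hom.app $(incl_ι h) V σ)

variable (A B : X.IdealSheafData)

/-- The Mayer–Vietoris sequence of two ideals. -/
def mvSeq : ShortComplex X.Modules :=
  ShortComplex.mk
    (biprod.lift (incl (inf_le_left : A ⊓ B ≤ A)) (-incl (inf_le_right : A ⊓ B ≤ B)))
    (biprod.desc (incl (le_sup_left : A ≤ A ⊔ B)) (incl (le_sup_right : B ≤ A ⊔ B))) (by
      rw [biprod.lift_desc, Preadditive.neg_comp, incl_comp, incl_comp]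
      exact add_neg_cancel _)

theorem mvSeq_shortExact : (mvSeq A B).ShortExact := by
  refine DefClassLib.shortExact_of_affines (fun V => ?_) (fun V m hm => ?_) fun V c => ?_
  · refine (injective_iff_map_eq_zero _).2 fun σ hσ => ?_
    have h := congr(Scheme.Modules.Hom.app
      $(biprod.lift_fst (incl (inf_le_left : A ⊓ B ≤ A)) (-incl (inf_le_right : A ⊓ B ≤ B))) V.1 σ)
    refine IntMultLib.idealModι_app_injective (A ⊓ B) V.1 ?_
    rw [map_zero, ← app_incl (inf_le_left : A ⊓ B ≤ A), ← h]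
    show (ClSub.idealModι A).app V.1 ((biprod.fst : _ ⊞ ClSub.idealMod B ⟶ _).app V.1 ((mvSeq A B).f.app V.1 σ)) = 0
    rw [hσ, map_zero, map_zero]
  · set a := (biprod.fst : ClSub.idealMod A ⊞ ClSub.idealMod B ⟶ _).app V.1 m with ha
    set b := (biprod.snd : ClSub.idealMod A ⊞ ClSub.idealMod B ⟶ _).app V.1 m with hb
    have hsum : (ClSub.idealModι A).app V.1 a + (ClSub.idealModι B).app V.1 b = 0 := by
      have h := congr(Scheme.Modules.Hom.app $(show
        (biprod.fst : ClSub.idealMod A ⊞ ClSub.idealMod B ⟶ _) ≫ ClSub.idealModι A +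
          (biprod.snd : ClSub.idealMod A ⊞ ClSub.idealMod B ⟶ _) ≫ ClSub.idealModι B =
        (mvSeq A B).g ≫ ClSub.idealModι (A ⊔ B) by
          apply biprod.hom_ext' <;> simp [mvSeq]) V.1 m)
      refine Eq.trans ?_ (h.trans ((congrArg ((ClSub.idealModι (A ⊔ B)).app V.1) hm).trans (map_zero _)))
      rfl
    have hmem : (show Γ(X, V.1) from (ClSub.idealModι A).app V.1 a) ∈ (A ⊓ B).ideal V := by
      rw [Scheme.IdealSheafData.ideal_inf]
      refine ⟨mem_of_section A V a, ?_⟩
      have e : (show Γ(X, V.1) from (ClSub.idealModι A).app V.1 a) =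
          -(show Γ(X, V.1) from (ClSub.idealModι B).app V.1 b) := eq_neg_of_add_eq_zero_left hsum
      rw [e]
      exact neg_mem (mem_of_section B V b)
    obtain ⟨σ, hσ⟩ := IntMultLib.exists_section (A ⊓ B) V hmem
    refine ⟨σ, ?_⟩
    have e1 : (incl (inf_le_left : A ⊓ B ≤ A)).app V.1 σ = a := by
      refine IntMultLib.idealModι_app_injective A V.1 ?_
      rw [app_incl]
      exact hσ
    have e2 : (-incl (inf_le_right : A ⊓ B ≤ B)).app V.1 σ = b := by
      refine IntMultLib.idealModι_app_injective B V.1 ?_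
      show (ClSub.idealModι B).app V.1 (-(incl (inf_le_right : A ⊓ B ≤ B)).app V.1 σ) = _
      rw [map_neg, app_incl]
      exact (congrArg Neg.neg hσ).trans (neg_eq_of_add_eq_zero_right hsum)
    have h := congr(Scheme.Modules.Hom.app $(show (mvSeq A B).f =
      incl (inf_le_left : A ⊓ B ≤ A) ≫ biprod.inl + (-incl (inf_le_right : A ⊓ B ≤ B)) ≫ biprod.inr by
        apply biprod.hom_ext <;> simp [mvSeq]) V.1 σ)
    refine h.trans ?_
    show (biprod.inl : ClSub.idealMod A ⟶ _ ⊞ ClSub.idealMod B).app V.1 ((incl (inf_le_left : A ⊓ B ≤ A)).app V.1 σ) +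
      (biprod.inr : ClSub.idealMod B ⟶ ClSub.idealMod A ⊞ _).app V.1 ((-incl (inf_le_right : A ⊓ B ≤ B)).app V.1 σ) = m
    rw [e1, e2, ha, hb]
    exact congr(Scheme.Modules.Hom.app
      $(biprod.total (X := ClSub.idealMod A) (Y := ClSub.idealMod B)) V.1 m)
  · have hc := mem_of_section (A ⊔ B) V c
    rw [Scheme.IdealSheafData.ideal_sup] at hc
    obtain ⟨a, ha, b, hb, hab⟩ := Submodule.mem_sup.1 hc
    obtain ⟨σ, hσ⟩ := IntMultLib.exists_section A V ha
    obtain ⟨τ, hτ⟩ := IntMultLib.exists_section B V hb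
    refine ⟨(biprod.inl : ClSub.idealMod A ⟶ _ ⊞ ClSub.idealMod B).app V.1 σ +
      (biprod.inr : ClSub.idealMod B ⟶ ClSub.idealMod A ⊞ _).app V.1 τ, IntMultLib.idealModι_app_injective (A ⊔ B) V.1 ?_⟩
    have h1 := congr(Scheme.Modules.Hom.app $(biprod.inl_desc (incl (le_sup_left : A ≤ A ⊔ B))
      (incl (le_sup_right : B ≤ A ⊔ B))) V.1 σ)
    have h2 := congr(Scheme.Modules.Hom.app $(biprod.inr_desc (incl (le_sup_left : A ≤ A ⊔ B))
      (incl (le_sup_right : B ≤ A ⊔ B))) V.1 τ)
    show (ClSub.idealModι (A ⊔ B)).app V.1 ((biprod.desc (incl (le_sup_left : A ≤ A ⊔ B))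
      (incl (le_sup_right : B ≤ A ⊔ B))).app V.1 (_ + _)) = _
    rw [map_add, map_add]
    refine Eq.trans (congrArg₂ (· + ·) ((congrArg _ h1).trans (app_incl _ _ _))
      ((congrArg _ h2).trans (app_incl _ _ _))) ?_
    rw [hσ, hτ]
    exact hab

variable {A B}

/-- Inclusions give maps of Mayer–Vietoris sequences. -/
def mvMap {A' B' : X.IdealSheafData} (hA : A' ≤ A) (hB : B' ≤ B) : mvSeq A' B' ⟶ mvSeq A B :=
  ShortComplex.homMk (incl (inf_le_inf hA hB)) (biprod.map (incl hA) (incl hB)) (incl (sup_le_sup hA hB))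
    (by apply biprod.hom_ext <;> simp [mvSeq]) (by apply biprod.hom_ext' <;> simp [mvSeq])

/-- Artin–Rees: high powers meet inside a given power of the intersection. -/
theorem exists_pow_inf_le [IsNoetherian X] (A B : X.IdealSheafData) (N : ℕ) :
    ∃ r : ℕ, 1 ≤ r ∧ A ^ r ⊓ B ^ r ≤ (A ⊓ B) ^ N := by
  classical
  obtain ⟨C, hC⟩ := CohExtLib.exists_affine_cover (X := X)
  have h : ∀ V : X.affineOpens, ∃ c : ℕ, ∀ n ≥ c, B.ideal V ^ n ⊓ A.ideal V ^ N ≤
      B.ideal V ^ (n - c) * A.ideal V ^ N := fun V => by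
    haveI : IsNoetherianRing Γ(X, V.1) := IsLocallyNoetherian.component_noetherian V
    obtain ⟨c, hc⟩ := Ideal.exists_pow_inf_eq_pow_smul (B.ideal V) (M := Γ(X, V.1)) (A.ideal V ^ N)
    refine ⟨c, fun n hn => ?_⟩
    have := hc n hn
    simp only [smul_eq_mul, Ideal.mul_top] at this
    rw [this]
    exact Ideal.mul_mono le_rfl inf_le_right
  choose c hc using h
  refine ⟨C.sup c + N + 1, by omega,
    Scheme.IdealSheafData.le_of_iSup_eq_top (fun V : C => V.1) ?_ fun V => ?_⟩
  · refine eq_top_iff.mpr fun x _ => ?_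
    obtain ⟨V, hV, hx⟩ := hC x
    exact Opens.mem_iSup.mpr ⟨⟨V, hV⟩, hx⟩
  · have hcV : c V.1 ≤ C.sup c := Finset.le_sup V.2
    rw [Scheme.IdealSheafData.ideal_inf, CohExtLib.pow_ideal]
    show (A ^ _).ideal V.1 ⊓ (B ^ _).ideal V.1 ≤ (A ⊓ B).ideal V.1 ^ N
    rw [CohExtLib.pow_ideal, CohExtLib.pow_ideal, Scheme.IdealSheafData.ideal_inf]
    show A.ideal V.1 ^ _ ⊓ B.ideal V.1 ^ _ ≤ (A.ideal V.1 ⊓ B.ideal V.1) ^ N
    calc A.ideal V.1 ^ (C.sup c + N + 1) ⊓ B.ideal V.1 ^ (C.sup c + N + 1)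
        ≤ B.ideal V.1 ^ (C.sup c + N + 1) ⊓ A.ideal V.1 ^ N :=
          le_inf inf_le_right (inf_le_left.trans (Ideal.pow_le_pow_right (by omega)))
      _ ≤ B.ideal V.1 ^ (C.sup c + N + 1 - c V.1) * A.ideal V.1 ^ N := hc V.1 _ (by omega)
      _ ≤ B.ideal V.1 ^ N * A.ideal V.1 ^ N := Ideal.mul_mono (Ideal.pow_le_pow_right (by omega)) le_rfl
      _ = (B.ideal V.1 * A.ideal V.1) ^ N := (mul_pow _ _ _).symm
      _ ≤ _ := Ideal.pow_right_mono (le_inf Ideal.mul_le_right Ideal.mul_le_left) N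

end LefProZeroLib
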